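import Mathlib
import Cfsg.Agent.H29.Ext

set_option autoImplicit false
set_option maxRecDepth 100000
set_option Elab.async false
set_option linter.all false

namespace H5.MM

open H29

def ivl : List ℕ := [0, 1, 2, 3, 4, 5, 6, 7, 8, 9, 10, 12, 11]
def cols : List ℕ := [0, 1, 2, 3, 4, 5, 6, 7, 8, 9, 10, 11, 12]
def hcols : List ℕ := [0, 1, 2, 3, 4, 5, 6, 7, 8, 9, 11, 12]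
def G0 : List (List ℕ) := [[1, 0, 1, 0],
 [1, 5, 1, 5],
 [1, 9, 1, 9],
 [1, 8, 1, 8],
 [3, 2, 3, 2],
 [3, 5, 3, 5],
 [3, 9, 3, 9],
 [3, 8, 3, 8],
 [0, 4, 0, 4],
 [0, 6, 0, 6],
 [0, 9, 0, 9],
 [0, 8, 0, 8],
 [2, 4, 2, 4],
 [2, 7, 2, 7],
 [2, 9, 2, 9],
 [2, 8, 2, 8],
 [4, 6, 4, 6],
 [4, 7, 4, 7],
 [4, 8, 4, 8],
 [5, 8, 5, 8],
 [6, 8, 6, 8],
 [7, 8, 7, 8],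
 [9, 8, 9, 8],
 [1, 3, 1, 3, 8],
 [1, 0, 4, 1, 4],
 [1, 0, 5, 0, 5],
 [3, 0, 3, 0, 9],
 [3, 2, 4, 3, 4],
 [3, 2, 5, 2, 5],
 [0, 2, 0, 2, 8],
 [0, 4, 7, 0, 7],
 [0, 6, 9, 6, 9],
 [2, 4, 6, 2, 6],
 [2, 7, 9, 7, 9],
 [4, 9, 4, 9, 8],
 [5, 9, 5, 9, 8],
 [1, 0, 1, 6, 0, 6],
 [1, 0, 1, 9, 0, 9],
 [1, 0, 1, 8, 0, 8],
 [1, 0, 6, 1, 6, 8],
 [1, 0, 6, 1, 8, 6],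
 [1, 0, 6, 8, 1, 6],
 [1, 2, 1, 2, 9, 8],
 [1, 2, 1, 2, 8, 9],
 [1, 2, 9, 1, 8, 2],
 [1, 4, 1, 7, 0, 7],
 [1, 4, 5, 0, 5, 4],
 [1, 5, 9, 1, 9, 5],
 [1, 5, 8, 1, 8, 5],
 [1, 7, 1, 7, 1, 7],
 [1, 9, 8, 1, 8, 9],
 [3, 0, 3, 6, 9, 6],
 [3, 2, 3, 7, 2, 7],
 [3, 2, 3, 9, 2, 9],
 [3, 2, 3, 8, 2, 8],
 [3, 2, 7, 3, 7, 8],
 [3, 2, 7, 3, 8, 7],
 [3, 2, 7, 8, 3, 7],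
 [3, 4, 3, 6, 2, 6],
 [3, 4, 5, 2, 5, 4],
 [3, 5, 9, 3, 9, 5],
 [3, 5, 8, 3, 8, 5],
 [3, 6, 3, 6, 3, 6],
 [3, 9, 8, 3, 8, 9],
 [0, 4, 6, 0, 6, 4],
 [0, 4, 9, 0, 9, 4],
 [0, 4, 8, 0, 8, 4],
 [0, 6, 8, 0, 8, 6],
 [0, 9, 8, 0, 8, 9],
 [2, 4, 7, 2, 7, 4],
 [2, 4, 9, 2, 9, 4],
 [2, 4, 8, 2, 8, 4],
 [2, 7, 8, 2, 8, 7],
 [4, 5, 4, 5, 4, 5],
 [4, 5, 9, 5, 4, 9],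
 [4, 6, 7, 4, 7, 6],
 [4, 6, 7, 6, 8, 7],
 [4, 6, 7, 8, 6, 7],
 [4, 6, 8, 4, 8, 6],
 [4, 6, 8, 7, 6, 7],
 [4, 7, 8, 4, 8, 7],
 [5, 6, 5, 6, 5, 6],
 [5, 7, 5, 7, 5, 7],
 [6, 9, 8, 9, 6, 8],
 [7, 9, 8, 9, 7, 8],
 [10, 0, 10, 0],
 [10, 1, 10, 1, 0],
 [10, 2, 10, 3, 2],
 [10, 3, 10, 3],
 [10, 8, 10, 9, 8],
 [10, 9, 10, 9],
 [10, 4, 5, 10, 4, 5, 12],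
 [0, 11, 0, 12],
 [1, 11, 1, 12],
 [2, 11, 2, 12],
 [3, 11, 3, 12],
 [4, 11, 4, 12],
 [5, 11, 5, 12],
 [6, 11, 6, 12],
 [7, 11, 7, 12],
 [8, 11, 8, 12],
 [9, 11, 9, 12],
 [10, 11, 10, 12],
 [10, 5, 10, 5, 10, 5],
 [10, 1, 5, 10, 1, 5, 10, 1, 5],
 [10, 5, 8, 10, 5, 8, 10, 5, 8],
 [10, 4, 10, 4, 10, 4],
 [10, 7, 10, 7, 10, 7, 10, 7, 10, 7],
 [10, 2, 4, 10, 2, 4, 10, 2, 4],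
 [10, 4, 8, 10, 4, 8, 10, 4, 8],
 [4, 6, 10, 4, 6, 10, 4, 6, 10],
 [5, 7, 10, 5, 7, 10, 5, 7, 10]]
def R0 : List (List ℕ) := G0
theorem hii : ∀ c, ivOf ivl (ivOf ivl c) = c := ivOf_ivOf (by decide +kernel)

end H5.MM
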